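import Cfsg.Agent.Screen.CosetEnum.Fi23Fi22.FCheck6

/-!
# Checking the table
-/

set_option autoImplicit false
set_option maxRecDepth 20000

namespace Cfsg.Agent.Screen.CosetEnum.Fi23Fi22

open Cfsg.Agent.Screen.CosetEnum

set_option Elab.async false

theorem fcheck192 : blocks tbl.toCert 40 7680 = true := by decide +kernel

theorem fcheck193 : blocks tbl.toCert 40 7720 = true := by decide +kernel

theorem fcheck194 : blocks tbl.toCert 40 7760 = true := by decide +kernel

theorem fcheck195 : blocks tbl.toCert 40 7800 = true := by decide +kernel

theorem fcheck196 : blocks tbl.toCert 40 7840 = true := by decide +kernel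

theorem fcheck197 : blocks tbl.toCert 40 7880 = true := by decide +kernel

theorem fcheck198 : blocks tbl.toCert 40 7920 = true := by decide +kernel

theorem fcheck199 : blocks tbl.toCert 40 7960 = true := by decide +kernel

theorem fcheck200 : blocks tbl.toCert 40 8000 = true := by decide +kernel

theorem fcheck201 : blocks tbl.toCert 40 8040 = true := by decide +kernel

theorem fcheck202 : blocks tbl.toCert 40 8080 = true := by decide +kernel

theorem fcheck203 : blocks tbl.toCert 40 8120 = true := by decide +kernel

theorem fcheck204 : blocks tbl.toCert 40 8160 = true := by decide +kernel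

theorem fcheck205 : blocks tbl.toCert 40 8200 = true := by decide +kernel

theorem fcheck206 : blocks tbl.toCert 40 8240 = true := by decide +kernel

theorem fcheck207 : blocks tbl.toCert 40 8280 = true := by decide +kernel

theorem fcheck208 : blocks tbl.toCert 40 8320 = true := by decide +kernel

theorem fcheck209 : blocks tbl.toCert 40 8360 = true := by decide +kernel

theorem fcheck210 : blocks tbl.toCert 40 8400 = true := by decide +kernel

theorem fcheck211 : blocks tbl.toCert 40 8440 = true := by decide +kernel

theorem fcheck212 : blocks tbl.toCert 40 8480 = true := by decide +kernel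

theorem fcheck213 : blocks tbl.toCert 40 8520 = true := by decide +kernel

theorem fcheck214 : blocks tbl.toCert 40 8560 = true := by decide +kernel

theorem fcheck215 : blocks tbl.toCert 40 8600 = true := by decide +kernel

end Cfsg.Agent.Screen.CosetEnum.Fi23Fi22
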