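import Cfsg.Agent.Screen.CosetEnum.Fi23Fi22.RCheck1

/-!
# Checking the table
-/

set_option autoImplicit false
set_option maxRecDepth 20000

namespace Cfsg.Agent.Screen.CosetEnum.Fi23Fi22

open Cfsg.Agent.Screen.CosetEnum

set_option Elab.async false

theorem rcheck72 : tbl.rows 150 10800 = true := by decide +kernel

theorem rcheck73 : tbl.rows 150 10950 = true := by decide +kernel

theorem rcheck74 : tbl.rows 150 11100 = true := by decide +kernel

theorem rcheck75 : tbl.rows 150 11250 = true := by decide +kernel

theorem rcheck76 : tbl.rows 150 11400 = true := by decide +kernel

theorem rcheck77 : tbl.rows 150 11550 = true := by decide +kernel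

theorem rcheck78 : tbl.rows 150 11700 = true := by decide +kernel

theorem rcheck79 : tbl.rows 150 11850 = true := by decide +kernel

theorem rcheck80 : tbl.rows 150 12000 = true := by decide +kernel

theorem rcheck81 : tbl.rows 150 12150 = true := by decide +kernel

theorem rcheck82 : tbl.rows 150 12300 = true := by decide +kernel

theorem rcheck83 : tbl.rows 150 12450 = true := by decide +kernel

theorem rcheck84 : tbl.rows 150 12600 = true := by decide +kernel

theorem rcheck85 : tbl.rows 150 12750 = true := by decide +kernel

theorem rcheck86 : tbl.rows 150 12900 = true := by decide +kernel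

theorem rcheck87 : tbl.rows 150 13050 = true := by decide +kernel

theorem rcheck88 : tbl.rows 150 13200 = true := by decide +kernel

theorem rcheck89 : tbl.rows 150 13350 = true := by decide +kernel

theorem rcheck90 : tbl.rows 150 13500 = true := by decide +kernel

theorem rcheck91 : tbl.rows 150 13650 = true := by decide +kernel

theorem rcheck92 : tbl.rows 150 13800 = true := by decide +kernel

theorem rcheck93 : tbl.rows 150 13950 = true := by decide +kernel

theorem rcheck94 : tbl.rows 150 14100 = true := by decide +kernel

theorem rcheck95 : tbl.rows 150 14250 = true := by decide +kernel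

end Cfsg.Agent.Screen.CosetEnum.Fi23Fi22
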