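import Cfsg.Agent.Screen.CosetEnum.Fi23Fi22.RCheck4

/-!
# Checking the table
-/

set_option autoImplicit false
set_option maxRecDepth 20000

namespace Cfsg.Agent.Screen.CosetEnum.Fi23Fi22

open Cfsg.Agent.Screen.CosetEnum

set_option Elab.async false

theorem rcheck144 : tbl.rows 150 21600 = true := by decide +kernel

theorem rcheck145 : tbl.rows 150 21750 = true := by decide +kernel

theorem rcheck146 : tbl.rows 150 21900 = true := by decide +kernel

theorem rcheck147 : tbl.rows 150 22050 = true := by decide +kernel

theorem rcheck148 : tbl.rows 150 22200 = true := by decide +kernel

theorem rcheck149 : tbl.rows 150 22350 = true := by decide +kernel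

theorem rcheck150 : tbl.rows 150 22500 = true := by decide +kernel

theorem rcheck151 : tbl.rows 150 22650 = true := by decide +kernel

theorem rcheck152 : tbl.rows 150 22800 = true := by decide +kernel

theorem rcheck153 : tbl.rows 150 22950 = true := by decide +kernel

theorem rcheck154 : tbl.rows 150 23100 = true := by decide +kernel

theorem rcheck155 : tbl.rows 150 23250 = true := by decide +kernel

theorem rcheck156 : tbl.rows 150 23400 = true := by decide +kernel

theorem rcheck157 : tbl.rows 150 23550 = true := by decide +kernel

theorem rcheck158 : tbl.rows 150 23700 = true := by decide +kernel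

theorem rcheck159 : tbl.rows 150 23850 = true := by decide +kernel

theorem rcheck160 : tbl.rows 150 24000 = true := by decide +kernel

theorem rcheck161 : tbl.rows 150 24150 = true := by decide +kernel

theorem rcheck162 : tbl.rows 150 24300 = true := by decide +kernel

theorem rcheck163 : tbl.rows 150 24450 = true := by decide +kernel

theorem rcheck164 : tbl.rows 150 24600 = true := by decide +kernel

theorem rcheck165 : tbl.rows 150 24750 = true := by decide +kernel

theorem rcheck166 : tbl.rows 150 24900 = true := by decide +kernel

theorem rcheck167 : tbl.rows 150 25050 = true := by decide +kernel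

end Cfsg.Agent.Screen.CosetEnum.Fi23Fi22
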