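import Cfsg.Agent.Screen.CosetEnum.Fi23Fi22.RCheck5

/-!
# Checking the table
-/

set_option autoImplicit false
set_option maxRecDepth 20000

namespace Cfsg.Agent.Screen.CosetEnum.Fi23Fi22

open Cfsg.Agent.Screen.CosetEnum

set_option Elab.async false

theorem rcheck168 : tbl.rows 150 25200 = true := by decide +kernel

theorem rcheck169 : tbl.rows 150 25350 = true := by decide +kernel

theorem rcheck170 : tbl.rows 150 25500 = true := by decide +kernel

theorem rcheck171 : tbl.rows 150 25650 = true := by decide +kernel

theorem rcheck172 : tbl.rows 150 25800 = true := by decide +kernel

theorem rcheck173 : tbl.rows 150 25950 = true := by decide +kernel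

theorem rcheck174 : tbl.rows 150 26100 = true := by decide +kernel

theorem rcheck175 : tbl.rows 150 26250 = true := by decide +kernel

theorem rcheck176 : tbl.rows 150 26400 = true := by decide +kernel

theorem rcheck177 : tbl.rows 150 26550 = true := by decide +kernel

theorem rcheck178 : tbl.rows 150 26700 = true := by decide +kernel

theorem rcheck179 : tbl.rows 150 26850 = true := by decide +kernel

theorem rcheck180 : tbl.rows 150 27000 = true := by decide +kernel

theorem rcheck181 : tbl.rows 150 27150 = true := by decide +kernel

theorem rcheck182 : tbl.rows 150 27300 = true := by decide +kernel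

theorem rcheck183 : tbl.rows 150 27450 = true := by decide +kernel

theorem rcheck184 : tbl.rows 150 27600 = true := by decide +kernel

theorem rcheck185 : tbl.rows 150 27750 = true := by decide +kernel

theorem rcheck186 : tbl.rows 150 27900 = true := by decide +kernel

theorem rcheck187 : tbl.rows 150 28050 = true := by decide +kernel

theorem rcheck188 : tbl.rows 150 28200 = true := by decide +kernel

theorem rcheck189 : tbl.rows 150 28350 = true := by decide +kernel

theorem rcheck190 : tbl.rows 150 28500 = true := by decide +kernel

theorem rcheck191 : tbl.rows 150 28650 = true := by decide +kernel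

end Cfsg.Agent.Screen.CosetEnum.Fi23Fi22
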