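import Cfsg.Agent.Screen.CosetEnum.Fi23Fi22.RCheck6

/-!
# Checking the table
-/

set_option autoImplicit false
set_option maxRecDepth 20000

namespace Cfsg.Agent.Screen.CosetEnum.Fi23Fi22

open Cfsg.Agent.Screen.CosetEnum

set_option Elab.async false

theorem rcheck192 : tbl.rows 150 28800 = true := by decide +kernel

theorem rcheck193 : tbl.rows 150 28950 = true := by decide +kernel

theorem rcheck194 : tbl.rows 150 29100 = true := by decide +kernel

theorem rcheck195 : tbl.rows 150 29250 = true := by decide +kernel

theorem rcheck196 : tbl.rows 150 29400 = true := by decide +kernel

theorem rcheck197 : tbl.rows 150 29550 = true := by decide +kernel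

theorem rcheck198 : tbl.rows 150 29700 = true := by decide +kernel

theorem rcheck199 : tbl.rows 150 29850 = true := by decide +kernel

theorem rcheck200 : tbl.rows 150 30000 = true := by decide +kernel

theorem rcheck201 : tbl.rows 150 30150 = true := by decide +kernel

theorem rcheck202 : tbl.rows 150 30300 = true := by decide +kernel

theorem rcheck203 : tbl.rows 150 30450 = true := by decide +kernel

theorem rcheck204 : tbl.rows 150 30600 = true := by decide +kernel

theorem rcheck205 : tbl.rows 150 30750 = true := by decide +kernel

theorem rcheck206 : tbl.rows 150 30900 = true := by decide +kernel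

theorem rcheck207 : tbl.rows 150 31050 = true := by decide +kernel

theorem rcheck208 : tbl.rows 150 31200 = true := by decide +kernel

theorem rcheck209 : tbl.rows 150 31350 = true := by decide +kernel

theorem rcheck210 : tbl.rows 150 31500 = true := by decide +kernel

theorem rcheck211 : tbl.rows 21 31650 = true := by decide +kernel

end Cfsg.Agent.Screen.CosetEnum.Fi23Fi22
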